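import Cfsg.Agent.Lib.Fi24Pres.Cover3.Rels6
import Cfsg.Agent.Lib.Fi24Pres.Cover3.Check.KI
import Cfsg.Agent.Lib.Fi24Pres.Cover3.Check.KC1
import Cfsg.Agent.Lib.Fi24Pres.Cover3.Check.KC2
import Cfsg.Agent.Lib.Fi24Pres.Cover3.Check.KC3
import Cfsg.Agent.Lib.Fi24Pres.Cover3.Check.KC4
import Cfsg.Agent.Lib.Fi24Pres.Cover3.Check.KC5
import Cfsg.Agent.Lib.Fi24Pres.Cover3.Check.KC6
import Cfsg.Agent.Lib.Fi24Pres.Cover3.Check.KC7
import Cfsg.Agent.Lib.Fi24Pres.Cover3.Check.KC8
import Cfsg.Agent.Lib.Fi24Pres.Cover3.Check.KC9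
import Cfsg.Agent.Lib.Fi24Pres.Cover3.Check.KBa
import Cfsg.Agent.Lib.Fi24Pres.Cover3.Check.KBl
import Cfsg.Agent.Lib.Fi24Pres.Cover3.Check.KZdef0
import Cfsg.Agent.Lib.Fi24Pres.Cover3.Check.KZdef1
import Cfsg.Agent.Lib.Fi24Pres.Cover3.Check.KZdef2
import Cfsg.Agent.Lib.Fi24Pres.Cover3.Check.KZpow
import Cfsg.Agent.Lib.Fi24Pres.ActH
import Mathlib.Algebra.Group.Opposite

/-!
Twelve permutations of 920808 points satisfying the relations of Fi24 except that the last relator is a shift.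
-/

set_option autoImplicit false
set_option maxRecDepth 100000

namespace Cfsg.Agent.Fi24Pres.Cover3

open Cfsg.Agent.CosetCert

noncomputable section

/-- The map of a generator. -/
def act3 (x : ℕ) : ℕ → ℕ := if x < 10 then genH (eT x) (dT x) x else if x = 10 then lift0 actL else odd3 dk3

theorem act3_h {x : ℕ} (hx : x < 10) : act3 x = genH (eT x) (dT x) x := if_pos hx

theorem act3_l : act3 10 = lift0 actL := rfl

theorem act3_k : act3 11 = odd3 dk3 := rfl

theorem act3_big {x : ℕ} (hx : 11 ≤ x) : act3 x = odd3 dk3 := by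
  rw [act3, if_neg (by omega), if_neg (by omega)]

theorem tw_act3 (x : ℕ) : Tw 2 (act3 x) := by
  unfold act3
  split_ifs
  exacts [tw_genH _ _ _, tw_lift0 _, tw_odd3 _]

theorem lift0_eq (f : ℕ → ℕ) (n : ℕ) : lift0 f n = 3 * f (n / 3) + 2 * (n % 3) % 3 := rfl

theorem lift0_lift0 (f g : ℕ → ℕ) (n : ℕ) : lift0 f (lift0 g n) = 3 * f (g (n / 3)) + n % 3 := by
  rw [lift0_eq g n, lift0_eq, show (3 * g (n / 3) + 2 * (n % 3) % 3) / 3 = g (n / 3) by omega]
  omega

theorem lift0_three (f g h : ℕ → ℕ) (n : ℕ) :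
    lift0 f (lift0 g (lift0 h n)) = 3 * f (g (h (n / 3))) + 2 * (n % 3) % 3 := by
  rw [lift0_lift0, lift0_eq, show (3 * h (n / 3) + 2 * (n % 3) % 3) / 3 = h (n / 3) by omega]
  omega

theorem lift0_high (m : ℕ) : lift0 actL (95016 + m) = 95016 + flip6 m := by
  rw [lift0_eq, show (95016 + m) / 3 = 31672 + m / 3 by omega, actL_two, flip6_eq, flip1_eq]
  omega

theorem lt_low {f : ℕ → ℕ} {n : ℕ} (hf : f (n / 3) < 31672) : lift0 f n < 95016 := by
  rw [lift0_eq]; omega

theorem hAct_low {j : ℕ} (hj : j < 10) {c : ℕ} (hc : c < 31672) : hAct j c < 31672 := by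
  rcases point_cases (c := c) (by omega) with rfl | ⟨x, hx, rfl⟩ | ⟨q, hq, rfl⟩
  · rw [hAct_zero]; omega
  · rw [hAct_one j hx]; have := (invT1 j hj).lt x hx; omega
  · omega

theorem act3_low {x : ℕ} (hx : x < 10) {n : ℕ} (hn : n < 95016) : act3 x n = lift0 (hAct x) n := by
  rw [act3_h hx, genH_low _ _ _ hn]; rfl

theorem act3_high {x : ℕ} (hx : x < 10) (m : ℕ) : act3 x (95016 + m) = 95016 + act6 (eT x) m := by
  rw [act3_h hx, genH_high]

theorem inv_act3 (x : ℕ) : Inv (act3 x) (3 * 306936) := by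
  rcases (show x < 10 ∨ x = 10 ∨ 11 ≤ x by omega) with hx | rfl | hx
  · refine ⟨fun n hn => ?_, fun n hn => ?_⟩
    · by_cases h : n < 95016
      · rw [act3_low hx h]
        have := lt_low (f := hAct x) (n := n) (hAct_low hx (by omega))
        omega
      · obtain ⟨m, rfl⟩ : ∃ m, n = 95016 + m := ⟨n - 95016, by omega⟩
        rw [act3_high hx]
        have := (invT6 x hx).lt m (by omega)
        omega
    · by_cases h : n < 95016
      · rw [act3_low hx h, act3_low hx (lt_low (hAct_low hx (by omega))), lift0_lift0,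
          (invH hx).inv _ (by omega)]
        omega
      · obtain ⟨m, rfl⟩ : ∃ m, n = 95016 + m := ⟨n - 95016, by omega⟩
        rw [act3_high hx, act3_high hx, (invT6 x hx).inv m (by omega)]
  · refine ⟨fun n hn => ?_, fun n hn => ?_⟩
    · rw [act3_l, lift0_eq]
      have := invL.lt (n / 3) (by omega)
      omega
    · rw [act3_l, lift0_lift0, invL.inv _ (by omega)]
      omega
  · rw [act3_big hx]; exact invk

theorem comm3H {i j : ℕ} (hij : i < j) (hj : j < 10) (h : adj i j = false) :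
    ∀ n < (3 * 306936), act3 i (act3 j n) = act3 j (act3 i n) := by
  intro n hn
  by_cases hl : n < 95016
  · rw [act3_low hj hl, act3_low (by omega) (lt_low (hAct_low hj (by omega))), act3_low (by omega) hl,
      act3_low hj (lt_low (hAct_low (by omega) (by omega))), lift0_lift0, lift0_lift0,
      commH hij hj h _ (by omega)]
  · obtain ⟨m, rfl⟩ : ∃ m, n = 95016 + m := ⟨n - 95016, by omega⟩
    rw [act3_high hj, act3_high (by omega), act3_high (by omega), act3_high hj, comm6 i j hij hj h m (by omega)]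

theorem braid3H {i j : ℕ} (hij : i < j) (hj : j < 10) (h : adj i j = true) :
    ∀ n < (3 * 306936), act3 i (act3 j (act3 i n)) = act3 j (act3 i (act3 j n)) := by
  intro n hn
  have hi : i < 10 := by omega
  by_cases hl : n < 95016
  · have a1 := hAct_low hi (show n / 3 < 31672 by omega)
    have b1 := hAct_low hj (show n / 3 < 31672 by omega)
    rw [act3_low hi hl, act3_low hj (lt_low a1), act3_low hi (by rw [lift0_lift0]; have := hAct_low hj a1; omega),
      act3_low hj hl, act3_low hi (lt_low b1), act3_low hj (by rw [lift0_lift0]; have := hAct_low hi b1; omega),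
      lift0_three, lift0_three, braidH hij hj h _ (by omega)]
  · obtain ⟨m, rfl⟩ : ∃ m, n = 95016 + m := ⟨n - 95016, by omega⟩
    simp only [act3_high hi, act3_high hj, braid6 i j hij hj h m (by omega)]

theorem comm3L {j : ℕ} (hj : j < 10) : ∀ n < (3 * 306936), act3 j (act3 10 n) = act3 10 (act3 j n) := by
  intro n hn
  rw [act3_l]
  by_cases hl : n < 95016
  · rw [act3_low hj (lt_low (by rw [actL_low (by omega)]; omega)), act3_low hj hl, lift0_lift0, lift0_lift0,
      commL hj _ (by omega)]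
  · obtain ⟨m, rfl⟩ : ∃ m, n = 95016 + m := ⟨n - 95016, by omega⟩
    rw [lift0_high, act3_high hj, act3_high hj, lift0_high, fl_act6]

theorem comm3K {j : ℕ} (h1 : 1 ≤ j) (hj : j < 10) : ∀ n < (3 * 306936), act3 11 (act3 j n) = act3 j (act3 11 n) := by
  have key : (∀ c < 306936, commAt key3 lift3 (odd3 dk3) (genH (eT j) (dT j) j) c = true) →
      ∀ n < (3 * 306936), act3 11 (act3 j n) = act3 j (act3 11 n) := fun hc => by
    rw [act3_k, act3_h hj]
    exact comm3_of_checks (tw_odd3 _) (tw_genH _ _ _) invk (act3_h hj ▸ inv_act3 j) hc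
  interval_cases j
  exacts [key kcm1, key kcm2, key kcm3, key kcm4, key kcm5, key kcm6, key kcm7, key kcm8, key kcm9]

theorem braid3a : ∀ n < (3 * 306936), act3 11 (act3 0 (act3 11 n)) = act3 0 (act3 11 (act3 0 n)) :=
  braid3_of_checks (f := odd3 dk3) (g := genH e0 d0 0) (tw_odd3 _) (tw_genH _ _ _) invk (inv_act3 0) kbr0

theorem braid3l : ∀ n < (3 * 306936), act3 11 (act3 10 (act3 11 n)) = act3 10 (act3 11 (act3 10 n)) :=
  braid3_of_checks (f := odd3 dk3) (g := lift0 actL) (tw_odd3 _) (tw_lift0 _) invk (inv_act3 10) kbrl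

theorem tw_comp : ∀ {fs : List (ℕ → ℕ)}, (∀ f ∈ fs, Tw 2 f) → Tw (2 ^ fs.length) (comp fs)
  | [], _ => fun _ => rfl
  | f :: fs, h => by
    have h1 := (tw_comp fun g hg => h g (List.mem_cons_of_mem _ hg)).comp (h f List.mem_cons_self)
    rw [List.length_cons, pow_succ]
    exact h1

theorem fl_comp : ∀ {fs : List (ℕ → ℕ)}, (∀ f ∈ fs, Fl f) → Fl (comp fs)
  | [], _ => fun _ => rfl
  | f :: fs, h => (fl_comp fun g hg => h g (List.mem_cons_of_mem _ hg)).comp (h f List.mem_cons_self)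

/-- The word of length seven on the six-fold cover. -/
def fs7 : List (ℕ → ℕ) := [0, 1, 2, 3, 4, 5, 7].map fun j => act6 (eT j)

theorem e6_word : ∀ m < 6 * 137632, (comp fs7)^[9] m = flip6 m := by
  have hI : ∀ f ∈ fs7, Inv f (6 * 137632) := fun f hf => by
    obtain ⟨j, hj, rfl⟩ := List.mem_map.1 hf
    exact invT6 j (by simp at hj; omega)
  have hF : ∀ f ∈ fs7, Fl f := fun f hf => by
    obtain ⟨j, _, rfl⟩ := List.mem_map.1 hf
    exact fl_act6 _
  have hT : Tw 2 (comp fs7) := (tw_comp fun f hf => by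
    obtain ⟨j, _, rfl⟩ := List.mem_map.1 hf
    exact tw_act6 _).congr rfl
  have heq : ∀ m < 6 * 137632, act6 qe6 m = comp fs7 m := by
    refine by_key (keyLift6 137632) (keyEq6 (tw_act6 _) hT (fl_act6 _) (fl_comp hF)) fun c hc _ => ?_
    exact Nat.eq_of_beq_eq_true (qe_def c hc)
  have hlt : ∀ m < 6 * 137632, act6 qe6 m < 6 * 137632 := fun m hm => by
    rw [heq m hm]; exact comp_lt hI m hm
  have h := pow_of_checks (keyLift6 137632) hlt
    (fun x hx y hy e => comp_inj hI x hx y hy (by rw [← heq x hx, ← heq y hy, e]))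
    (fun x hx => flip6_lt.2 hx) (fun x _ => (fl_act6 qe6 x).symm)
    (keyEq6 (((tw_act6 qe6).iterate 9).congr (b := 2) (by norm_num)) tw_flip6 ((fl_act6 qe6).iterate 9) fl_flip6)
    qe_pow
  have hit : ∀ i, ∀ m < 6 * 137632, (act6 qe6)^[i] m = (comp fs7)^[i] m ∧ (comp fs7)^[i] m < 6 * 137632 := by
    intro i
    induction i with
    | zero =>
      intro m hm
      simp only [Function.iterate_zero_apply]
      exact ⟨trivial, hm⟩
    | succ i ih =>
      intro m hm
      obtain ⟨e1, e2⟩ := ih m hm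
      rw [Function.iterate_succ_apply', Function.iterate_succ_apply', e1, heq _ e2]
      exact ⟨rfl, comp_lt hI _ e2⟩
  exact fun m hm => by rw [← (hit 9 m hm).1, h m hm]

theorem comp_act3 {w : List ℕ} (hw : ∀ j ∈ w, j < 10) :
    (∀ n < 95016, comp (w.map act3) n = 3 * comp (w.map hAct) (n / 3) + 2 ^ w.length * (n % 3) % 3) ∧
      ∀ m, comp (w.map act3) (95016 + m) = 95016 + comp (w.map fun j => act6 (eT j)) m := by
  induction w with
  | nil => exact ⟨fun n _ => by simp only [List.map_nil, comp_nil, List.length_nil, pow_zero]; omega, fun _ => rfl⟩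
  | cons j w ih =>
    obtain ⟨h1, h2⟩ := ih fun i hi => hw i (List.mem_cons_of_mem _ hi)
    have hj := hw j List.mem_cons_self
    refine ⟨fun n hn => ?_, fun m => ?_⟩
    · have hl := lt_low (f := hAct j) (n := n) (hAct_low hj (by omega))
      rw [List.map_cons, comp_cons, act3_low hj hn, h1 _ hl, List.map_cons, comp_cons, lift0_eq,
        show (3 * hAct j (n / 3) + 2 * (n % 3) % 3) / 3 = hAct j (n / 3) by omega, List.length_cons, pow_succ,
        show (3 * hAct j (n / 3) + 2 * (n % 3) % 3) % 3 = 2 * (n % 3) % 3 by omega, Nat.mul_mod,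
        Nat.mod_mod, ← Nat.mul_mod, mul_assoc]
    · rw [List.map_cons, comp_cons, act3_high hj, h2, List.map_cons, comp_cons]

theorem eW3 : ∀ n < (3 * 306936), comp (eW.map act3) n = act3 10 n := by
  obtain ⟨h1, h2⟩ := comp_act3 (w := eW) (by decide)
  intro n hn
  rw [act3_l]
  by_cases hl : n < 95016
  · rw [h1 n hl, eWH (n / 3) (by omega), lift0_eq, show eW.length = 63 from rfl]
    norm_num
    omega
  · obtain ⟨m, rfl⟩ : ∃ m, n = 95016 + m := ⟨n - 95016, by omega⟩
    rw [h2, lift0_high, ← e6_word m (by omega), ← comp_rep]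
    rfl

/-- The maps of a word. -/
def mapsW3 (w : List ℕ) : List (ℕ → ℕ) := w.map act3

theorem qz_def_all : ∀ c < 306936, Nat.beq (T20.get qz3 c) (comp (mapsW3 [3, 2, 1, 0, 11, 10, 3, 4, 5, 6, 9, 3, 7, 8])
    (lift3 c)) = true := by
  intro c hc
  rcases (show c < 106496 ∨ (106496 ≤ c ∧ c < 212992) ∨ 212992 ≤ c by omega) with h | ⟨h, h'⟩ | h
  exacts [qz_def0 c (Nat.zero_le c) h, qz_def1 c h h', qz_def2 c h hc]

theorem z_act3 : ∀ n < (3 * 306936), comp (mapsW3 zW) n = tau (tau n) := by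
  set fs := mapsW3 [3, 2, 1, 0, 11, 10, 3, 4, 5, 6, 9, 3, 7, 8] with hfs
  have hI : ∀ f ∈ fs, Inv f (3 * 306936) := fun f hf => by
    obtain ⟨x, -, rfl⟩ := List.mem_map.1 hf
    exact inv_act3 x
  have hT : Tw 1 (comp fs) := (tw_comp fun f hf => by
    obtain ⟨x, -, rfl⟩ := List.mem_map.1 hf
    exact tw_act3 x).congr (by rw [hfs]; rfl)
  have heq : ∀ n < (3 * 306936), even3 qz3 n = comp fs n := by
    refine by_key (keyLift3 306936) (keyEq3 (tw_even3 _) hT) fun c hc _ => ?_
    rw [← Nat.eq_of_beq_eq_true (qz_def_all c hc)]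
    show 3 * (qz3.get (3 * c / 3) / 3) + (qz3.get (3 * c / 3) % 3 + 3 * c % 3) % 3 = _
    rw [show 3 * c / 3 = c by omega]
    omega
  have hlt : ∀ n < (3 * 306936), even3 qz3 n < (3 * 306936) := fun n hn => by rw [heq n hn]; exact comp_lt hI n hn
  have h := pow_of_checks (keyLift3 306936) hlt
    (fun x hx y hy e => comp_inj hI x hx y hy (by rw [← heq x hx, ← heq y hy, e]))
    (σ := fun n => tau (tau n)) (fun x hx => tau_lt.2 (tau_lt.2 hx))
    (fun x _ => by
      have e := tw_even3 qz3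
      rw [show even3 qz3 (tau (tau x)) = tau (tau (even3 qz3 x)) from (e (tau x)).trans (congrArg tau (e x))])
    (keyEq3 (((tw_even3 qz3).iterate 17).congr (b := 1) (by norm_num)) tw_tau2) qz_pow
  have hit : ∀ i, ∀ n < (3 * 306936), (even3 qz3)^[i] n = (comp fs)^[i] n ∧ (comp fs)^[i] n < (3 * 306936) := by
    intro i
    induction i with
    | zero =>
      intro n hn
      simp only [Function.iterate_zero_apply]
      exact ⟨trivial, hn⟩
    | succ i ih =>
      intro n hn
      obtain ⟨e1, e2⟩ := ih n hn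
      rw [Function.iterate_succ_apply', Function.iterate_succ_apply', e1, heq _ e2]
      exact ⟨rfl, comp_lt hI _ e2⟩
  intro n hn
  rw [show mapsW3 zW = List.flatten (List.replicate 17 fs) from rfl, comp_rep, ← (hit 17 n hn).1]
  exact h n hn

/-- The permutation of a generator. -/
def perm3 (x : ℕ) : Equiv.Perm (Fin (3 * 306936)) where
  toFun c := ⟨act3 x c, (inv_act3 x).lt c c.2⟩
  invFun c := ⟨act3 x c, (inv_act3 x).lt c c.2⟩
  left_inv c := Fin.ext ((inv_act3 x).inv c c.2)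
  right_inv c := Fin.ext ((inv_act3 x).inv c c.2)

/-- The generators, composed with the first one first. -/
def pgen3 (x : ℕ) : (Equiv.Perm (Fin (3 * 306936)))ᵐᵒᵖ := MulOpposite.op (perm3 x)

/-- The shift by two. -/
def shiftP : Equiv.Perm (Fin (3 * 306936)) where
  toFun c := ⟨tau (tau c), tau_lt.2 (tau_lt.2 c.2)⟩
  invFun c := ⟨tau c, tau_lt.2 c.2⟩
  left_inv c := Fin.ext (by show tau (tau (tau (c : ℕ))) = c; exact tau_three _)
  right_inv c := Fin.ext (by show tau (tau (tau (c : ℕ))) = c; exact tau_three _)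

/-- The shift as an opposite element. -/
def shift : (Equiv.Perm (Fin (3 * 306936)))ᵐᵒᵖ := MulOpposite.op shiftP

theorem op_ext3 {a b : (Equiv.Perm (Fin (3 * 306936)))ᵐᵒᵖ} (h : ∀ c : Fin (3 * 306936), (a.unop c : ℕ) = (b.unop c : ℕ)) :
    a = b :=
  MulOpposite.unop_injective (Equiv.ext fun c => Fin.ext (h c))

theorem wprod_pgen3 (w : List ℕ) (c : Fin (3 * 306936)) :
    (((wprod pgen3 w).unop c : Fin (3 * 306936)) : ℕ) = comp (mapsW3 w) c := by
  induction w generalizing c with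
  | nil => rfl
  | cons x w ih =>
    rw [wprod_cons, MulOpposite.unop_mul, Equiv.Perm.mul_apply, ih]
    rfl

theorem shift_val (c : Fin (3 * 306936)) : ((shift.unop c : Fin (3 * 306936)) : ℕ) = tau (tau c) := rfl

theorem shift_cube : shift ^ 3 = 1 := op_ext3 fun c => by
  rw [pow_succ, pow_two, MulOpposite.unop_mul, MulOpposite.unop_mul, Equiv.Perm.mul_apply, Equiv.Perm.mul_apply,
    shift_val, shift_val, shift_val, MulOpposite.unop_one, Equiv.Perm.one_apply]
  rw [show ∀ y, tau (tau (tau y)) = y from tau_three, show ∀ y, tau (tau (tau y)) = y from tau_three]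

theorem shift_ne_one : shift ≠ 1 := fun h => by
  have e := shift_val ⟨0, by norm_num⟩
  rw [h, MulOpposite.unop_one, Equiv.Perm.one_apply] at e
  exact absurd e (by decide)

theorem pgen3_sq (x : ℕ) : pgen3 x * pgen3 x = 1 := op_ext3 fun c => (inv_act3 x).inv c c.2

theorem pgen3_shift (x : ℕ) : pgen3 x * shift * pgen3 x = shift⁻¹ := op_ext3 fun c => by
  show act3 x (tau (tau (act3 x c))) = tau c
  rw [tw_act3 x (tau (act3 x c)), tw_act3 x (act3 x c), (inv_act3 x).inv c c.2,
    ← Function.iterate_add_apply, tau_iterate, tau_eq]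
  omega

theorem pgen3_braid : ∀ p ∈ edgesN, pgen3 p.1 * pgen3 p.2 * pgen3 p.1 = pgen3 p.2 * pgen3 p.1 * pgen3 p.2 := by
  intro p hp
  have hk : ∀ {i j : ℕ}, i < j → j < 10 → adj i j = true →
      pgen3 i * pgen3 j * pgen3 i = pgen3 j * pgen3 i * pgen3 j := fun hij hj h => op_ext3 fun c =>
    braid3H hij hj h c c.2
  obtain ⟨i, j⟩ := p
  simp only [edgesN, List.mem_cons, Prod.mk.injEq, List.not_mem_nil, or_false] at hp
  rcases hp with ⟨rfl, rfl⟩ | ⟨rfl, rfl⟩ | ⟨rfl, rfl⟩ | ⟨rfl, rfl⟩ | ⟨rfl, rfl⟩ | ⟨rfl, rfl⟩ | ⟨rfl, rfl⟩ |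
    ⟨rfl, rfl⟩ | ⟨rfl, rfl⟩ | ⟨rfl, rfl⟩ | ⟨rfl, rfl⟩
  · exact op_ext3 fun c => (braid3l c c.2).symm
  · exact op_ext3 fun c => braid3a c c.2
  all_goals exact hk (by norm_num) (by norm_num) (by decide)

theorem pgen3_comm_lt {x y : ℕ} (hxy : x < y) (hy : y < 12) (h1 : (x, y) ∉ edgesN) (h2 : (y, x) ∉ edgesN) :
    pgen3 x * pgen3 y = pgen3 y * pgen3 x := by
  rcases (show y < 10 ∨ y = 10 ∨ y = 11 by omega) with hy' | rfl | rfl
  · have ha : adj x y = false := by
      have := (show ∀ i j : Fin 10, adj i.val j.val =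
        decide ((i.val, j.val) ∈ edgesN ∨ (j.val, i.val) ∈ edgesN) by decide +kernel) ⟨x, by omega⟩ ⟨y, hy'⟩
      rw [this]; simp [h1, h2]
    exact op_ext3 fun c => (comm3H hxy hy' ha c c.2).symm
  · exact op_ext3 fun c => (comm3L hxy c c.2).symm
  · rcases (show x = 0 ∨ (1 ≤ x ∧ x < 10) ∨ x = 10 by omega) with rfl | ⟨a, b⟩ | rfl
    · exact absurd (by decide) h2
    · exact op_ext3 fun c => comm3K a b c c.2
    · exact absurd (by decide) h1

theorem pgen3_comm : ∀ x < 12, ∀ y < 12, (x, y) ∉ edgesN → (y, x) ∉ edgesN →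
    pgen3 x * pgen3 y = pgen3 y * pgen3 x := by
  intro x hx y hy h1 h2
  rcases lt_trichotomy x y with h | rfl | h
  · exact pgen3_comm_lt h hy h1 h2
  · rfl
  · exact (pgen3_comm_lt h hx h2 h1).symm

theorem pgen3_l : pgen3 10 = wprod pgen3 eW := op_ext3 fun c => by
  rw [wprod_pgen3, show mapsW3 eW = eW.map act3 from rfl]
  exact (eW3 c c.2).symm

theorem pgen3_z : wprod pgen3 zW = shift := op_ext3 fun c => by
  rw [wprod_pgen3, z_act3 c c.2]
  rfl

end

end Cfsg.Agent.Fi24Pres.Cover3
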