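import Cfsg.Agent.Lib.Fi24Pres.ActLemmas

/-!
Maps of a triple cover of points: a point `c` and a residue `t` are numbered `3 * c + t`.
-/

set_option autoImplicit false

namespace Cfsg.Agent.Fi24Pres.Cover3

noncomputable section

/-- The shift of the residue. -/
def tau (n : ℕ) : ℕ := Nat.add (Nat.mul 3 (Nat.div n 3)) (Nat.mod (Nat.add (Nat.mod n 3) 1) 3)

/-- The exchange of sheets on the six-fold cover of pairs. -/
def flip6 (m : ℕ) : ℕ := Nat.add (Nat.mul 3 (Nat.xor (Nat.div m 3) 1)) (Nat.mod (Nat.mul 2 (Nat.mod m 3)) 3)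

/-- An odd map of the six-fold cover from its table on the pairs. -/
def act6 (t : T20) (m : ℕ) : ℕ :=
  Nat.add (Nat.mul 3 (Nat.xor (Nat.div (t.get (Nat.div m 6)) 3) (Nat.land (Nat.div m 3) 1)))
    (Nat.mod (Nat.add (Nat.mul (Nat.mod (t.get (Nat.div m 6)) 3) (Nat.add 1 (Nat.land (Nat.div m 3) 1)))
      (Nat.mul 2 (Nat.mod m 3))) 3)

/-- The lift with residue negated. -/
def lift0 (f : ℕ → ℕ) (n : ℕ) : ℕ := Nat.add (Nat.mul 3 (f (Nat.div n 3))) (Nat.mod (Nat.mul 2 (Nat.mod n 3)) 3)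

/-- An odd map from its table on the points. -/
def odd3 (t : T20) (n : ℕ) : ℕ :=
  Nat.add (Nat.mul 3 (Nat.div (t.get (Nat.div n 3)) 3))
    (Nat.mod (Nat.add (Nat.mod (t.get (Nat.div n 3)) 3) (Nat.mul 2 (Nat.mod n 3))) 3)

/-- An even map from its table on the points. -/
def even3 (t : T20) (n : ℕ) : ℕ :=
  Nat.add (Nat.mul 3 (Nat.div (t.get (Nat.div n 3)) 3))
    (Nat.mod (Nat.add (Nat.mod (t.get (Nat.div n 3)) 3) (Nat.mod n 3)) 3)

/-- A generator among a, ..., j on the triple cover. -/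
def genH (e d : T20) (j n : ℕ) : ℕ :=
  Bool.rec (Nat.add 95016 (act6 e (Nat.sub n 95016))) (lift0 (actH d j) n) (Nat.blt n 95016)

/-- The key of a point of the triple cover. -/
abbrev key3 : ℕ → ℕ := fun n => Nat.div n 3

/-- The point with residue zero. -/
abbrev lift3 : ℕ → ℕ := fun c => Nat.mul 3 c

/-- The key of a point of the six-fold cover. -/
abbrev key6 : ℕ → ℕ := fun m => Nat.div m 6

/-- The point with sheet and residue zero. -/
abbrev lift6 : ℕ → ℕ := fun p => Nat.mul 6 p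

/-- A map multiplies the shift by `k`. -/
def Tw (k : ℕ) (f : ℕ → ℕ) : Prop := ∀ n, f (tau n) = tau^[k] (f n)

/-- A map commuting with the exchange of sheets. -/
def Fl (f : ℕ → ℕ) : Prop := ∀ m, f (flip6 m) = flip6 (f m)

theorem tau_eq (n : ℕ) : tau n = 3 * (n / 3) + (n % 3 + 1) % 3 := rfl

theorem flip6_eq (m : ℕ) : flip6 m = 3 * (m / 3 ^^^ 1) + 2 * (m % 3) % 3 := rfl

theorem tau_div (n : ℕ) : tau n / 3 = n / 3 := by rw [tau_eq]; omega

theorem tau_lt {N n : ℕ} : tau n < 3 * N ↔ n < 3 * N := by rw [tau_eq]; omega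

theorem tau_iterate (n : ℕ) : ∀ k, tau^[k] n = 3 * (n / 3) + (n % 3 + k) % 3
  | 0 => by simp only [Function.iterate_zero_apply]; omega
  | k + 1 => by rw [Function.iterate_succ_apply', tau_iterate n k, tau_eq]; omega

theorem tau_three (n : ℕ) : tau^[3] n = n := by rw [tau_iterate]; omega

theorem tau_inj {a b : ℕ} : tau a = tau b ↔ a = b := by
  constructor
  · intro h; rw [tau_eq, tau_eq] at h; omega
  · rintro rfl; rfl

theorem xor_one (x : ℕ) : x ^^^ 1 = if x % 2 = 0 then x + 1 else x - 1 := by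
  have := flip1_div x
  rw [flip1_eq, Nat.shiftRight_eq_div_pow, Nat.shiftRight_eq_div_pow, pow_one] at this
  have h : (x ^^^ 1) % 2 = (x + 1) % 2 := by
    rw [← Nat.and_one_is_mod, Nat.and_xor_distrib_right, Nat.and_one_is_mod]
    rcases Nat.mod_two_eq_zero_or_one x with e | e <;> rw [e, Nat.add_mod, e] <;> rfl
  split_ifs <;> omega

theorem flip6_div6 (m : ℕ) : flip6 m / 6 = m / 6 := by
  have h : flip6 m / 3 = m / 3 ^^^ 1 := by rw [flip6_eq]; omega
  rw [show (6 : ℕ) = 3 * 2 from rfl, ← Nat.div_div_eq_div_mul, ← Nat.div_div_eq_div_mul, h, xor_one]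
  generalize m / 3 = q
  split_ifs <;> omega

theorem flip6_lt {n m : ℕ} : flip6 m < 6 * n ↔ m < 6 * n := by
  have := flip6_div6 m
  omega

theorem flip6_flip6 (m : ℕ) : flip6 (flip6 m) = m := by
  rw [flip6_eq m, flip6_eq, show (3 * (m / 3 ^^^ 1) + 2 * (m % 3) % 3) / 3 = m / 3 ^^^ 1 by omega,
    Nat.xor_assoc, Nat.xor_self, Nat.xor_zero]
  omega

theorem flip6_inj {a b : ℕ} : flip6 a = flip6 b ↔ a = b :=
  ⟨fun h => by rw [← flip6_flip6 a, h, flip6_flip6], fun h => h ▸ rfl⟩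

theorem flip6_div (m : ℕ) : flip6 m / 3 = m / 3 ^^^ 1 := by rw [flip6_eq]; omega

theorem flip6_mod (m : ℕ) : flip6 m % 3 = 2 * (m % 3) % 3 := by rw [flip6_eq]; omega

theorem fl_flip6 : Fl flip6 := fun _ => rfl

theorem tw_flip6 : Tw 2 flip6 := fun m => by
  rw [tau_iterate, flip6_eq (tau m), tau_div, flip6_div, flip6_mod, show tau m % 3 = (m % 3 + 1) % 3 by
    rw [tau_eq]; omega]
  omega

theorem act6_eq (t : T20) (m : ℕ) : act6 t m = 3 * (t.get (m / 6) / 3 ^^^ (m / 3 % 2)) +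
    (t.get (m / 6) % 3 * (1 + m / 3 % 2) + 2 * (m % 3)) % 3 := by
  show 3 * (t.get (m / 6) / 3 ^^^ (m / 3 &&& 1)) +
    (t.get (m / 6) % 3 * (1 + (m / 3 &&& 1)) + 2 * (m % 3)) % 3 = _
  rw [Nat.and_one_is_mod]

theorem tw_act6 (t : T20) : Tw 2 (act6 t) := fun m => by
  rw [tau_iterate, act6_eq t (tau m), act6_eq t m, tau_div,
    show tau m / 6 = m / 6 by have := tau_div m; omega, show tau m % 3 = (m % 3 + 1) % 3 by rw [tau_eq]; omega]
  generalize t.get (m / 6) % 3 * (1 + m / 3 % 2) = a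
  generalize t.get (m / 6) / 3 ^^^ (m / 3 % 2) = b
  omega

theorem fl_act6 (t : T20) : Fl (act6 t) := fun m => by
  have h6 := flip6_div6 m
  have hs : flip6 m / 3 % 2 = 1 - m / 3 % 2 := by
    rw [flip6_div, xor_one]
    split_ifs <;> omega
  rw [act6_eq t (flip6 m), act6_eq t m, h6, hs, flip6_mod]
  generalize t.get (m / 6) = v
  have hv := Nat.mod_lt v (show 0 < 3 by norm_num)
  have hm := Nat.mod_lt m (show 0 < 3 by norm_num)
  generalize v % 3 = a at hv ⊢
  generalize m % 3 = r at hm ⊢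
  generalize v / 3 = b
  rcases Nat.mod_two_eq_zero_or_one (m / 3) with e | e <;> rw [e, flip6_eq] <;>
    (rw [show ∀ x y : ℕ, y < 3 → (3 * x + y) / 3 = x from fun x y hy => by omega, Nat.xor_assoc] <;>
      [skip; exact Nat.mod_lt _ (by norm_num)]) <;>
    simp only [Nat.sub_zero, Nat.sub_self, Nat.xor_self, Nat.xor_zero, Nat.zero_xor] <;> omega

theorem tw_lift0 (f : ℕ → ℕ) : Tw 2 (lift0 f) := fun n => by
  show 3 * f (tau n / 3) + 2 * (tau n % 3) % 3 = tau^[2] (3 * f (n / 3) + 2 * (n % 3) % 3)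
  rw [tau_iterate, tau_div, tau_eq]
  omega

theorem tw_odd3 (t : T20) : Tw 2 (odd3 t) := fun n => by
  show 3 * (t.get (tau n / 3) / 3) + (t.get (tau n / 3) % 3 + 2 * (tau n % 3)) % 3 =
    tau^[2] (3 * (t.get (n / 3) / 3) + (t.get (n / 3) % 3 + 2 * (n % 3)) % 3)
  rw [tau_iterate, tau_div, tau_eq]
  omega

theorem tw_even3 (t : T20) : Tw 1 (even3 t) := fun n => by
  show 3 * (t.get (tau n / 3) / 3) + (t.get (tau n / 3) % 3 + tau n % 3) % 3 =
    tau^[1] (3 * (t.get (n / 3) / 3) + (t.get (n / 3) % 3 + n % 3) % 3)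
  rw [tau_iterate, tau_div, tau_eq]
  omega

theorem tw_tau2 : Tw 1 (fun n => tau (tau n)) := fun _ => rfl

theorem genH_low (e d : T20) (j : ℕ) {n : ℕ} (h : n < 95016) : genH e d j n = lift0 (actH d j) n := by
  have : Nat.blt n 95016 = true := by rw [Nat.blt_eq]; exact h
  simp only [genH, this]

theorem genH_high (e d : T20) (j m : ℕ) : genH e d j (95016 + m) = 95016 + act6 e m := by
  have h1 : Nat.blt (95016 + m) 95016 = false := by
    cases h : Nat.blt (95016 + m) 95016 with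
    | false => rfl
    | true => rw [Nat.blt_eq] at h; omega
  simp only [genH, h1]
  rw [show Nat.sub (95016 + m) 95016 = m from by show 95016 + m - 95016 = m; omega]
  rfl

theorem tw_genH (e d : T20) (j : ℕ) : Tw 2 (genH e d j) := fun n => by
  by_cases h : n < 95016
  · rw [genH_low e d j h, genH_low e d j (by rw [tau_eq]; omega)]
    exact tw_lift0 _ n
  · obtain ⟨m, rfl⟩ : ∃ m, n = 95016 + m := ⟨n - 95016, by omega⟩
    rw [show tau (95016 + m) = 95016 + tau m by rw [tau_eq, tau_eq]; omega, genH_high, genH_high, tw_act6 e m,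
      tau_iterate, tau_iterate]
    omega

theorem Tw.comp {a b : ℕ} {f g : ℕ → ℕ} (hf : Tw a f) (hg : Tw b g) : Tw (a * b) (fun x => f (g x)) := fun n => by
  show f (g (tau n)) = tau^[a * b] (f (g n))
  rw [hg n]
  clear hg
  generalize g n = y
  induction b with
  | zero => rfl
  | succ b ih =>
    rw [Function.iterate_succ_apply', hf, ih, Nat.mul_succ, Nat.add_comm, Function.iterate_add_apply]

theorem Fl.comp {f g : ℕ → ℕ} (hf : Fl f) (hg : Fl g) : Fl (fun x => f (g x)) := fun m => by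
  show f (g (flip6 m)) = flip6 (f (g m))
  rw [hg, hf]

theorem Tw.congr {a b : ℕ} {f : ℕ → ℕ} (hf : Tw a f) (h : a % 3 = b % 3) : Tw b f := fun n => by
  rw [hf, tau_iterate, tau_iterate]
  omega

theorem Tw.iterate {f : ℕ → ℕ} {a : ℕ} (hf : Tw a f) : ∀ e, Tw (a ^ e) (f^[e])
  | 0 => fun _ => rfl
  | e + 1 => by
    rw [Function.iterate_succ', pow_succ']
    exact hf.comp (Tw.iterate hf e)

theorem Fl.iterate {f : ℕ → ℕ} (hf : Fl f) : ∀ e, Fl (f^[e])
  | 0 => fun _ => rfl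
  | e + 1 => by rw [Function.iterate_succ']; exact hf.comp (Fl.iterate hf e)

/-- A property kept by the shift holds at all points with the same key. -/
theorem keyProp3 {N : ℕ} {P : ℕ → Prop} (h : ∀ x, P x ↔ P (tau x)) : KeyProp key3 lift3 N P := fun x _ => by
  have hk : ∀ k y, P y ↔ P (tau^[k] y) := by
    intro k
    induction k with
    | zero => exact fun _ => Iff.rfl
    | succ k ih => exact fun y => (ih y).trans (by rw [Function.iterate_succ_apply']; exact h _)
  refine ((hk (x % 3) (3 * (x / 3))).trans ?_).symm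
  rw [tau_iterate, show 3 * (3 * (x / 3) / 3) + (3 * (x / 3) % 3 + x % 3) % 3 = x by omega]

/-- A property kept by the shift and the exchange of sheets holds at all points with the same key. -/
theorem keyProp6 {N : ℕ} {P : ℕ → Prop} (h : ∀ x, P x ↔ P (tau x)) (h' : ∀ x, P x ↔ P (flip6 x)) :
    KeyProp key6 lift6 N P := fun x hx => by
  have e := keyProp3 (N := N) h x hx
  refine e.trans ?_
  show P (3 * (x / 3)) ↔ P (6 * (x / 6))
  rcases Nat.mod_two_eq_zero_or_one (x / 3) with e | e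
  · rw [show 3 * (x / 3) = 6 * (x / 6) by omega]
  · rw [h' (6 * (x / 6)), flip6_eq, xor_one, if_pos (by omega)]
    rw [show 3 * (6 * (x / 6) / 3 + 1) + 2 * (6 * (x / 6) % 3) % 3 = 3 * (x / 3) by omega]

/-- The triple cover, by points. -/
theorem keyLift3 (n : ℕ) : KeyLift key3 lift3 (3 * n) n :=
  ⟨fun x hx => by show x / 3 < n; omega, fun c hc => by show 3 * c < 3 * n; omega,
    fun c _ => by show 3 * c / 3 = c; omega⟩

/-- The six-fold cover, by pairs. -/
theorem keyLift6 (n : ℕ) : KeyLift key6 lift6 (6 * n) n :=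
  ⟨fun x hx => by show x / 6 < n; omega, fun c hc => by show 6 * c < 6 * n; omega,
    fun c _ => by show 6 * c / 6 = c; omega⟩

theorem keyEq3 {N a : ℕ} {f g : ℕ → ℕ} (hf : Tw a f) (hg : Tw a g) :
    KeyProp key3 lift3 N fun x => f x = g x :=
  keyProp3 fun x => by
    rw [hf x, hg x]
    refine ⟨fun e => by rw [e], fun e => ?_⟩
    rw [tau_iterate, tau_iterate] at e
    omega

theorem keyEq6 {N a : ℕ} {f g : ℕ → ℕ} (hf : Tw a f) (hg : Tw a g) (hf' : Fl f) (hg' : Fl g) :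
    KeyProp key6 lift6 N fun x => f x = g x :=
  keyProp6 (fun x => by
      rw [hf x, hg x]
      refine ⟨fun e => by rw [e], fun e => ?_⟩
      rw [tau_iterate, tau_iterate] at e
      omega)
    fun x => by rw [hf' x, hg' x, flip6_inj]

theorem inv3_of_checks {f : ℕ → ℕ} {n : ℕ} (hf : Tw 2 f)
    (hc : ∀ c < n, invAt lift3 f (3 * n) c = true) : Inv f (3 * n) :=
  inv_of_checks (keyLift3 n) (keyProp3 fun x => by
    have e2 : f (f (tau x)) = tau (f (f x)) :=
      ((hf.comp hf).congr (b := 1) (by norm_num) x).trans rfl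
    rw [e2, hf x, tau_inj, tau_iterate]
    constructor <;> rintro ⟨h1, h2⟩ <;> exact ⟨by omega, h2⟩) hc

theorem inv6_of_checks {f : ℕ → ℕ} {n : ℕ} (hf : Tw 2 f) (hf' : Fl f)
    (hc : ∀ c < n, invAt lift6 f (6 * n) c = true) : Inv f (6 * n) :=
  inv_of_checks (keyLift6 n) (keyProp6 (fun x => by
      have e2 : f (f (tau x)) = tau (f (f x)) :=
        ((hf.comp hf).congr (b := 1) (by norm_num) x).trans rfl
      rw [e2, hf x, tau_inj, tau_iterate]
      constructor <;> rintro ⟨h1, h2⟩ <;> exact ⟨by omega, h2⟩)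
    fun x => by rw [hf' x, hf' (f x), flip6_inj, flip6_lt]) hc

theorem comm3_of_checks {f g : ℕ → ℕ} {n : ℕ} (hf : Tw 2 f) (hg : Tw 2 g) (If : Inv f (3 * n))
    (Ig : Inv g (3 * n)) (hc : ∀ c < n, commAt key3 lift3 f g c = true) : ∀ x < 3 * n, f (g x) = g (f x) :=
  comm_of_checks (keyLift3 n) If Ig (keyEq3 (hf.comp hg) (hg.comp hf)) hc

theorem braid3_of_checks {f g : ℕ → ℕ} {n : ℕ} (hf : Tw 2 f) (hg : Tw 2 g) (If : Inv f (3 * n))
    (Ig : Inv g (3 * n)) (hc : ∀ c < n, braidAt key3 lift3 f g c = true) :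
    ∀ x < 3 * n, f (g (f x)) = g (f (g x)) :=
  braid_of_checks (keyLift3 n) If Ig (keyEq3 (hf.comp (hg.comp hf)) (hg.comp (hf.comp hg))) hc

theorem comm6_of_checks {f g : ℕ → ℕ} {n : ℕ} (hf : Tw 2 f) (hg : Tw 2 g) (hf' : Fl f) (hg' : Fl g)
    (If : Inv f (6 * n)) (Ig : Inv g (6 * n)) (hc : ∀ c < n, commAt key6 lift6 f g c = true) :
    ∀ x < 6 * n, f (g x) = g (f x) :=
  comm_of_checks (keyLift6 n) If Ig
    (keyEq6 (hf.comp hg) (hg.comp hf) (hf'.comp hg') (hg'.comp hf')) hc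

theorem braid6_of_checks {f g : ℕ → ℕ} {n : ℕ} (hf : Tw 2 f) (hg : Tw 2 g) (hf' : Fl f) (hg' : Fl g)
    (If : Inv f (6 * n)) (Ig : Inv g (6 * n)) (hc : ∀ c < n, braidAt key6 lift6 f g c = true) :
    ∀ x < 6 * n, f (g (f x)) = g (f (g x)) :=
  braid_of_checks (keyLift6 n) If Ig (keyEq6 (hf.comp (hg.comp hf)) (hg.comp (hf.comp hg))
    (hf'.comp (hg'.comp hf')) (hg'.comp (hf'.comp hg'))) hc

end

end Cfsg.Agent.Fi24Pres.Cover3
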