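import Cfsg.Agent.Lib.Fi24Pres.Cover3.Check.Qe
import Cfsg.Agent.Lib.Fi24Pres.Cover3.Check.B01
import Cfsg.Agent.Lib.Fi24Pres.Cover3.Check.C02
import Cfsg.Agent.Lib.Fi24Pres.Cover3.Check.C03
import Cfsg.Agent.Lib.Fi24Pres.Cover3.Check.C04
import Cfsg.Agent.Lib.Fi24Pres.Cover3.Check.C05
import Cfsg.Agent.Lib.Fi24Pres.Cover3.Check.C06
import Cfsg.Agent.Lib.Fi24Pres.Cover3.Check.C07
import Cfsg.Agent.Lib.Fi24Pres.Cover3.Check.C08
import Cfsg.Agent.Lib.Fi24Pres.Cover3.Check.C09
import Cfsg.Agent.Lib.Fi24Pres.Cover3.Check.B12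
import Cfsg.Agent.Lib.Fi24Pres.Cover3.Check.C13
import Cfsg.Agent.Lib.Fi24Pres.Cover3.Check.C14
import Cfsg.Agent.Lib.Fi24Pres.Cover3.Check.C15
import Cfsg.Agent.Lib.Fi24Pres.Cover3.Check.C16
import Cfsg.Agent.Lib.Fi24Pres.Cover3.Check.C17
import Cfsg.Agent.Lib.Fi24Pres.Cover3.Check.C18
import Cfsg.Agent.Lib.Fi24Pres.Cover3.Check.C19
import Cfsg.Agent.Lib.Fi24Pres.Cover3.Check.B23
import Cfsg.Agent.Lib.Fi24Pres.Cover3.Check.C24
import Cfsg.Agent.Lib.Fi24Pres.Cover3.Check.C25
import Cfsg.Agent.Lib.Fi24Pres.Cover3.Check.C26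
import Cfsg.Agent.Lib.Fi24Pres.Cover3.Check.C27
import Cfsg.Agent.Lib.Fi24Pres.Cover3.Check.C28
import Cfsg.Agent.Lib.Fi24Pres.Cover3.Check.C29
import Cfsg.Agent.Lib.Fi24Pres.Cover3.Check.B34
import Cfsg.Agent.Lib.Fi24Pres.Cover3.Check.C35
import Cfsg.Agent.Lib.Fi24Pres.Cover3.Check.C36
import Cfsg.Agent.Lib.Fi24Pres.Cover3.Check.B37
import Cfsg.Agent.Lib.Fi24Pres.Cover3.Check.C38
import Cfsg.Agent.Lib.Fi24Pres.Cover3.Check.C39
import Cfsg.Agent.Lib.Fi24Pres.Cover3.Check.B45
import Cfsg.Agent.Lib.Fi24Pres.Cover3.Check.C46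
import Cfsg.Agent.Lib.Fi24Pres.Cover3.Check.C47
import Cfsg.Agent.Lib.Fi24Pres.Cover3.Check.C48
import Cfsg.Agent.Lib.Fi24Pres.Cover3.Check.C49
import Cfsg.Agent.Lib.Fi24Pres.Cover3.Check.B56
import Cfsg.Agent.Lib.Fi24Pres.Cover3.Check.C57
import Cfsg.Agent.Lib.Fi24Pres.Cover3.Check.C58
import Cfsg.Agent.Lib.Fi24Pres.Cover3.Check.C59
import Cfsg.Agent.Lib.Fi24Pres.Cover3.Check.C67
import Cfsg.Agent.Lib.Fi24Pres.Cover3.Check.C68
import Cfsg.Agent.Lib.Fi24Pres.Cover3.Check.B69
import Cfsg.Agent.Lib.Fi24Pres.Cover3.Check.B78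
import Cfsg.Agent.Lib.Fi24Pres.Cover3.Check.C79
import Cfsg.Agent.Lib.Fi24Pres.Cover3.Check.C89
import Cfsg.Agent.Lib.Fi24Pres.Rels2

/-!
The relations of a, ..., j on the six-fold cover of the pairs.
-/

set_option autoImplicit false
set_option maxRecDepth 100000

namespace Cfsg.Agent.Fi24Pres.Cover3

noncomputable section

/-- The table of a generator on the six-fold cover. -/
def eT : ℕ → T20
  | 0 => e0
  | 1 => e1
  | 2 => e2
  | 3 => e3
  | 4 => e4
  | 5 => e5
  | 6 => e6
  | 7 => e7
  | 8 => e8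
  | _ => e9

theorem invT6 : ∀ j < 10, Inv (act6 (eT j)) (6 * 137632) := by
  intro j hj
  interval_cases j
  exacts [inv0, inv1, inv2, inv3, inv4, inv5, inv6, inv7, inv8, inv9]

theorem comm6 : ∀ i j, i < j → j < 10 → adj i j = false →
    ∀ x < 6 * 137632, act6 (eT i) (act6 (eT j) x) = act6 (eT j) (act6 (eT i) x) := by
  intro i j hij hj h
  interval_cases j <;> interval_cases i
  · exact absurd h (by decide)
  · exact cm0_2
  · exact absurd h (by decide)
  · exact cm0_3
  · exact cm1_3
  · exact absurd h (by decide)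
  · exact cm0_4
  · exact cm1_4
  · exact cm2_4
  · exact absurd h (by decide)
  · exact cm0_5
  · exact cm1_5
  · exact cm2_5
  · exact cm3_5
  · exact absurd h (by decide)
  · exact cm0_6
  · exact cm1_6
  · exact cm2_6
  · exact cm3_6
  · exact cm4_6
  · exact absurd h (by decide)
  · exact cm0_7
  · exact cm1_7
  · exact cm2_7
  · exact absurd h (by decide)
  · exact cm4_7
  · exact cm5_7
  · exact cm6_7
  · exact cm0_8
  · exact cm1_8
  · exact cm2_8
  · exact cm3_8
  · exact cm4_8
  · exact cm5_8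
  · exact cm6_8
  · exact absurd h (by decide)
  · exact cm0_9
  · exact cm1_9
  · exact cm2_9
  · exact cm3_9
  · exact cm4_9
  · exact cm5_9
  · exact absurd h (by decide)
  · exact cm7_9
  · exact cm8_9

theorem braid6 : ∀ i j, i < j → j < 10 → adj i j = true →
    ∀ x < 6 * 137632, act6 (eT i) (act6 (eT j) (act6 (eT i) x)) = act6 (eT j) (act6 (eT i) (act6 (eT j) x)) := by
  intro i j hij hj h
  interval_cases j <;> interval_cases i
  · exact br0_1
  · exact absurd h (by decide)
  · exact br1_2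
  · exact absurd h (by decide)
  · exact absurd h (by decide)
  · exact br2_3
  · exact absurd h (by decide)
  · exact absurd h (by decide)
  · exact absurd h (by decide)
  · exact br3_4
  · exact absurd h (by decide)
  · exact absurd h (by decide)
  · exact absurd h (by decide)
  · exact absurd h (by decide)
  · exact br4_5
  · exact absurd h (by decide)
  · exact absurd h (by decide)
  · exact absurd h (by decide)
  · exact absurd h (by decide)
  · exact absurd h (by decide)
  · exact br5_6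
  · exact absurd h (by decide)
  · exact absurd h (by decide)
  · exact absurd h (by decide)
  · exact br3_7
  · exact absurd h (by decide)
  · exact absurd h (by decide)
  · exact absurd h (by decide)
  · exact absurd h (by decide)
  · exact absurd h (by decide)
  · exact absurd h (by decide)
  · exact absurd h (by decide)
  · exact absurd h (by decide)
  · exact absurd h (by decide)
  · exact absurd h (by decide)
  · exact br7_8
  · exact absurd h (by decide)
  · exact absurd h (by decide)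
  · exact absurd h (by decide)
  · exact absurd h (by decide)
  · exact absurd h (by decide)
  · exact absurd h (by decide)
  · exact br6_9
  · exact absurd h (by decide)
  · exact absurd h (by decide)

end

end Cfsg.Agent.Fi24Pres.Cover3
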