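import Cfsg.Agent.Lib.Fi24Pres.Cover3.Action
import Cfsg.Agent.Lib.Fi24Pres.Core
import Cfsg.Agent.Lib.Fi24Pres.Sign
import Cfsg.Prelude.Def_KGroupFacts
import Mathlib.GroupTheory.SpecificGroups.Cyclic

/-!
A stem extension of the commutator subgroup of the presented Fi24 by a group of order three: the group
generated by the twelve permutations of 920808 points, paired with the twelve generators.
-/

set_option autoImplicit false
set_option maxRecDepth 100000

namespace Cfsg.Agent.Fi24Pres.Cover3

open Cfsg.Agent.CosetCert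
open Cfsg.Agent.CosetData
open Cfsg.Agent.FischerPresented
open scoped commutatorElement

noncomputable section

/-- The homomorphism given by twelve elements satisfying the relations. -/
theorem hom_of_gens {G : Type} [Group G] {g : ℕ → G} (hg : Gens g) :
    ∃ φ : G24 →* G, ∀ x < 12, φ (gen x) = g x := by
  have hrel : ∀ r ∈ Cfsg.Spor.coxRelators Cfsg.Spor.Fi24.edges ∪ {r | r ∈ Cfsg.Spor.Fi24.extra},
      FreeGroup.lift (fun a => g (ix a)) r = 1 := by
    have sq := hg.sq
    have tri : ∀ {a b : G}, a * a = 1 → b * b = 1 → a * b * a = b * a * b → (a * b) ^ 3 = 1 := by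
      intro a b ha hb h
      calc (a * b) ^ 3 = a * b * a * (b * a * b) := by rw [pow_succ, pow_two]; simp only [mul_assoc]
        _ = 1 := by rw [← h]; simp only [mul_assoc]; rw [← mul_assoc a a, ha, one_mul, ← mul_assoc b b, hb,
            one_mul, ha]
    rintro r (⟨a, -, b, -, rfl⟩ | hr)
    · rw [map_pow, map_mul, FreeGroup.lift_apply_of, FreeGroup.lift_apply_of]
      by_cases hab : a = b
      · subst hab; rw [coxLabel_self, pow_one]; exact sq _
      · by_cases he : (ix a, ix b) ∈ edgesN ∨ (ix b, ix a) ∈ edgesN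
        · have hs : Cfsg.Spor.coxLabel Cfsg.Spor.Fi24.edges a b = 3 := by
            rcases he with he | he <;>
              (have hl := edge_label _ he
               rw [gi_ix, gi_ix] at hl
               revert hl; cases a <;> cases b <;> decide)
          rw [hs]
          rcases he with he | he
          · exact tri (sq _) (sq _) (hg.braid _ he)
          · exact tri (sq _) (sq _) (hg.braid _ he).symm
        · rw [not_or] at he
          rcases comm_label (show ix a < 12 by cases a <;> decide) (show ix b < 12 by cases b <;> decide) he.1 he.2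
            with h | h
          · exact absurd (by rw [← gi_ix a, h, gi_ix]) hab
          · rw [gi_ix, gi_ix] at h
            rw [h, pow_two, mul_assoc, ← mul_assoc (g (ix b)),
              hg.comm _ (by cases b <;> decide) _ (by cases a <;> decide) he.2 he.1,
              mul_assoc (g (ix a)) (g (ix b)), sq, mul_one, sq]
    · simp only [Set.mem_ofPred_eq, Cfsg.Spor.Fi24.extra, List.mem_cons, List.not_mem_nil, or_false] at hr
      rcases hr with rfl | rfl
      · rw [map_mul, map_inv, map_pow]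
        simp only [map_mul, FreeGroup.lift_apply_of, ix]
        rw [mul_inv_eq_one, hg.l_eq, eW, wprod_rep]
        simp only [wprod_cons, wprod_nil, mul_one, mul_assoc]
      · have hz := hg.z_one
        rw [zW, wprod_rep] at hz
        rw [map_pow]
        simp only [map_mul, FreeGroup.lift_apply_of, ix]
        simp only [wprod_cons, wprod_nil, mul_one] at hz
        simpa only [mul_assoc] using hz
  refine ⟨PresentedGroup.toGroup hrel, fun x hx => ?_⟩
  rw [gen, PresentedGroup.toGroup.of]
  interval_cases x <;> rfl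

theorem finite_G24 : Finite G24 := by
  have hi : HH.index ≠ 0 := by rw [index_HH]; norm_num
  have hs : Function.Surjective (fun u : W2 => (⟨theta u, theta_mem u⟩ : HH)) := by
    rintro ⟨h, hh⟩
    have hle : HH ≤ theta.range := (Subgroup.closure_le _).2 (by
      rintro _ ⟨x, hx, rfl⟩; exact ⟨gW x, theta_gW hx⟩)
    obtain ⟨u, hu⟩ := hle hh
    exact ⟨u, Subtype.ext hu⟩
  have : Finite HH := Finite.of_surjective _ hs
  refine Nat.finite_of_card_ne_zero ?_
  rw [← Subgroup.card_mul_index HH]
  exact mul_ne_zero Nat.card_pos.ne' hi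

/-- The ambient group. -/
abbrev Amb : Type := G24 × (Equiv.Perm (Fin (3 * 306936)))ᵐᵒᵖ

/-- A lifted generator. -/
def gl (x : ℕ) : Amb := (gen x, pgen3 x)

theorem gl_big : ∀ x, 11 ≤ x → gl x = gl 11 := by
  intro x hx
  obtain ⟨k, rfl⟩ : ∃ k, x = 11 + k := ⟨x - 11, by omega⟩
  refine Prod.ext ?_ (op_ext3 fun c => ?_)
  · show gen (11 + k) = gen 11
    rw [gen, gen, show gi (11 + k) = gi 11 by rw [Nat.add_comm]; rfl]
  · show act3 (11 + k) c = act3 11 c
    rw [act3_big hx, act3_k]

/-- The group of lifts. -/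
def Gam : Subgroup Amb := Subgroup.closure (gl '' {x | x < 12})

theorem gl_mem (x : ℕ) : gl x ∈ Gam := by
  by_cases hx : x < 12
  · exact Subgroup.subset_closure ⟨x, hx, rfl⟩
  · rw [gl_big x (by omega)]; exact Subgroup.subset_closure ⟨11, by norm_num, rfl⟩

/-- A generator of the group of lifts. -/
def gG (x : ℕ) : Gam := ⟨gl x, gl_mem x⟩

theorem closure_gG : Subgroup.closure (gG '' {x | x < 12}) = ⊤ := by
  refine Subgroup.map_injective Gam.subtype_injective ?_
  rw [MonoidHom.map_closure, ← MonoidHom.range_eq_map, Subgroup.range_subtype, ← Set.image_comp]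
  rfl

/-- The projection. -/
def pr : Gam →* G24 := (MonoidHom.fst G24 (Equiv.Perm (Fin (3 * 306936)))ᵐᵒᵖ).comp Gam.subtype

theorem pr_gG (x : ℕ) : pr (gG x) = gen x := rfl

theorem pr_surj : Function.Surjective pr := by
  rw [← MonoidHom.range_eq_top, eq_top_iff, ← closure_gen, Subgroup.closure_le]
  rintro _ ⟨x, _, rfl⟩
  exact ⟨gG x, rfl⟩

theorem gG_sq (x : ℕ) : gG x * gG x = 1 := Subtype.ext (Prod.ext (gen_sq x) (pgen3_sq x))

theorem gG_inv (x : ℕ) : (gG x)⁻¹ = gG x := inv_eq_of_mul_eq_one_right (gG_sq x)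

theorem gG_braid : ∀ p ∈ edgesN, gG p.1 * gG p.2 * gG p.1 = gG p.2 * gG p.1 * gG p.2 := fun p hp =>
  Subtype.ext (Prod.ext (gens.braid p hp) (pgen3_braid p hp))

theorem gG_comm : ∀ x < 12, ∀ y < 12, (x, y) ∉ edgesN → (y, x) ∉ edgesN → gG x * gG y = gG y * gG x :=
  fun x hx y hy h1 h2 => Subtype.ext (Prod.ext (gens.comm x hx y hy h1 h2) (pgen3_comm x hx y hy h1 h2))

theorem coe_wprod (w : List ℕ) : ((wprod gG w : Gam) : Amb) = (wprod gen w, wprod pgen3 w) := by
  induction w with
  | nil => rfl
  | cons x w ih => rw [wprod_cons, Subgroup.coe_mul, ih, wprod_cons, wprod_cons]; rfl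

theorem gG_l : gG 10 = wprod gG eW :=
  Subtype.ext ((Prod.ext gens.l_eq pgen3_l : gl 10 = (wprod gen eW, wprod pgen3 eW)).trans (coe_wprod eW).symm)

/-- The central element. -/
def cG : Gam := wprod gG zW

theorem cG_coe : (cG : Amb) = (1, shift) := by rw [cG, coe_wprod, gens.z_one, pgen3_z]

theorem cG_cube : cG ^ 3 = 1 := Subtype.ext (by
  rw [SubgroupClass.coe_pow, cG_coe, Prod.pow_mk, one_pow, shift_cube]; rfl)

theorem cG_ne : cG ≠ 1 := fun h => shift_ne_one (by
  have := congrArg (fun a : Gam => ((a : Amb)).2) h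
  simpa [cG_coe] using this)

theorem orderOf_cG : orderOf cG = 3 := by
  have : Fact (Nat.Prime 3) := ⟨by norm_num⟩
  exact orderOf_eq_prime cG_cube cG_ne

theorem gG_conj (x : ℕ) : gG x * cG * gG x = cG⁻¹ := Subtype.ext (by
  rw [Subgroup.coe_inv, Subgroup.coe_mul, Subgroup.coe_mul, cG_coe]
  exact Prod.ext (show gen x * 1 * gen x = 1⁻¹ by rw [mul_one, gen_sq, inv_one]) (pgen3_shift x))

theorem conj_cG (u : Gam) : u * cG * u⁻¹ = cG ^ ((sgnHom (pr u) : ℤˣ) : ℤ) := by
  have hu : u ∈ Subgroup.closure (gG '' {x | x < 12}) := closure_gG.ge (Subgroup.mem_top u)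
  induction hu using Subgroup.closure_induction with
  | mem g hg =>
    obtain ⟨x, _, rfl⟩ := hg
    rw [gG_inv, gG_conj, pr_gG, sgnHom_gen, Units.val_neg, Units.val_one, zpow_neg, zpow_one]
  | one => rw [map_one, map_one, Units.val_one, zpow_one, one_mul, inv_one, mul_one]
  | mul a b _ _ ha hb =>
    rw [map_mul, map_mul, Units.val_mul, mul_inv_rev]
    calc a * b * cG * (b⁻¹ * a⁻¹) = a * (b * cG * b⁻¹) * a⁻¹ := by simp only [mul_assoc]
      _ = (a * cG * a⁻¹) ^ ((sgnHom (pr b) : ℤˣ) : ℤ) := by rw [hb, conj_zpow]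
      _ = cG ^ (((sgnHom (pr a) : ℤˣ) : ℤ) * ((sgnHom (pr b) : ℤˣ) : ℤ)) := by rw [ha, ← zpow_mul]
  | inv a _ ha =>
    rw [map_inv, map_inv, inv_inv]
    rcases Int.units_eq_one_or (sgnHom (pr a)) with e | e <;> rw [e] at ha ⊢
    · rw [inv_one, Units.val_one, zpow_one] at *
      calc a⁻¹ * cG * a = a⁻¹ * (a * cG * a⁻¹) * a := by rw [ha]
        _ = cG := by group
    · rw [show ((-1 : ℤˣ))⁻¹ = -1 from rfl, Units.val_neg, Units.val_one, zpow_neg, zpow_one] at *
      have h0 : (a * cG * a⁻¹)⁻¹ = a * cG⁻¹ * a⁻¹ := by group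
      have h1 : a * cG⁻¹ * a⁻¹ = cG := by rw [← h0, ha, inv_inv]
      calc a⁻¹ * cG * a = a⁻¹ * (a * cG⁻¹ * a⁻¹) * a := by rw [h1]
        _ = cG⁻¹ := by group

/-- The elements over the commutator subgroup. -/
def Ev : Subgroup Gam := (commutator G24).comap pr

instance : (Subgroup.zpowers cG).Normal := ⟨fun n hn u => by
  obtain ⟨k, rfl⟩ := Subgroup.mem_zpowers_iff.1 hn
  rw [← conj_zpow, conj_cG, ← zpow_mul]
  exact Subgroup.zpow_mem_zpowers _ _⟩

theorem pr_cG : pr cG = 1 := by
  show (cG : Amb).1 = 1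
  rw [cG_coe]

theorem ker_pr : pr.ker = Subgroup.zpowers cG := by
  refine le_antisymm (fun u hu => ?_) (Subgroup.zpowers_le.2 pr_cG)
  have hg : Gens fun x => QuotientGroup.mk' (Subgroup.zpowers cG) (gG x) := by
    refine ⟨fun x => by rw [← map_mul, gG_sq, map_one], fun p hp => ?_, fun x hx y hy h1 h2 => ?_, ?_, ?_⟩
    · simp only [← map_mul, gG_braid p hp]
    · simp only [← map_mul, gG_comm x hx y hy h1 h2]
    · show QuotientGroup.mk' _ (gG 10) = _
      rw [gG_l, map_wprod]
    · rw [← map_wprod]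
      exact (QuotientGroup.eq_one_iff _).2 (Subgroup.mem_zpowers cG)
  obtain ⟨φ, hφ⟩ := hom_of_gens hg
  have h : φ.comp pr = QuotientGroup.mk' (Subgroup.zpowers cG) := by
    refine MonoidHom.eq_of_eqOn_dense closure_gG ?_
    rintro _ ⟨x, hx, rfl⟩
    exact hφ x hx
  have e := DFunLike.congr_fun h u
  rw [MonoidHom.comp_apply, MonoidHom.mem_ker.1 hu, map_one] at e
  exact (QuotientGroup.eq_one_iff _).1 e.symm

theorem mem_Ev {u : Gam} : u ∈ Ev ↔ sgnHom (pr u) = 1 := by
  show pr u ∈ commutator G24 ↔ _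
  rw [commutator_eq]; rfl

theorem cG_mem : cG ∈ Ev := mem_Ev.2 (by rw [pr_cG, map_one])

instance : Ev.Normal := Subgroup.normal_comap pr

theorem cG_derived : cG ∈ ⁅Ev, Ev⁆ := by
  set N : Subgroup Gam := ⁅Ev, Ev⁆
  have hab : ∀ a ∈ Ev, ∀ b ∈ Ev, Commute (QuotientGroup.mk' N a) (QuotientGroup.mk' N b) := fun a ha b hb => by
    rw [← commutatorElement_eq_one_iff_commute, ← map_commutatorElement]
    exact (QuotientGroup.eq_one_iff _).2 (Subgroup.commutator_mem_commutator ha hb)
  have hpair : ∀ x y, gG x * gG y ∈ Ev := fun x y => mem_Ev.2 (by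
    rw [map_mul, map_mul, pr_gG, pr_gG, sgnHom_gen, sgnHom_gen]; rfl)
  set q : ℕ → Gam ⧸ N := fun x => QuotientGroup.mk' N (gG x) with hq
  have hsq : ∀ x, q x * q x = 1 := fun x => by rw [hq]; simp only [← map_mul, gG_sq, map_one]
  have hcomm : ∀ x < 12, ∀ y < 12, (x, y) ∉ edgesN → (y, x) ∉ edgesN → q x * q y = q y * q x :=
    fun x hx y hy h1 h2 => by rw [hq]; simp only [← map_mul, gG_comm x hx y hy h1 h2]
  have hpc : ∀ x y z w, Commute (q x * q y) (q z * q w) := fun x y z w => by
    rw [hq]; simp only [← map_mul]; exact hab _ (hpair x y) _ (hpair z w)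
  have step : ∀ x y w, (x, y) ∈ edgesN → w < 12 → ((x, w) ∉ edgesN ∧ (w, x) ∉ edgesN) →
      ((y, w) ∉ edgesN ∧ (w, y) ∉ edgesN) → x < 12 → y < 12 → q x = q y := by
    intro x y w he hw hxw hyw hx hy
    have two : ∀ {a b}, q a * q b = q b * q a → (q a * q b) * (q a * q b) = 1 := fun {a b} e => by
      calc q a * q b * (q a * q b) = q a * q b * (q b * q a) := by rw [e]
        _ = q a * (q b * q b) * q a := by simp only [mul_assoc]
        _ = 1 := by rw [hsq, mul_one, hsq]
    have hu : q x * q y = q x * q w * (q w * q y) := by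
      rw [mul_assoc, ← mul_assoc (q w), hsq, one_mul]
    have h2 : (q x * q y) ^ 2 = 1 := by
      rw [hu, (hpc x w w y).mul_pow, pow_two, pow_two, two (hcomm x hx w hw hxw.1 hxw.2),
        two (hcomm w hw y hy hyw.2 hyw.1), mul_one]
    have hb : q x * q y * q x = q y * q x * q y := by
      rw [hq]; simp only [← map_mul, gG_braid _ he]
    have h3 : (q x * q y) ^ 3 = 1 := by
      calc (q x * q y) ^ 3 = q x * q y * q x * (q y * q x * q y) := by
            rw [pow_succ, pow_two]; simp only [mul_assoc]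
        _ = q x * q y * q x * (q x * q y * q x) := by rw [hb]
        _ = q x * (q y * (q x * q x) * q y) * q x := by simp only [mul_assoc]
        _ = 1 := by rw [hsq, mul_one, hsq, mul_one, hsq]
    have h1 : q x * q y = 1 := by rwa [pow_succ, h2, one_mul] at h3
    calc q x = q x * (q y * q y) := by rw [hsq, mul_one]
      _ = q y := by rw [← mul_assoc, h1, one_mul]
  have e1 := step 0 1 3 (by decide) (by norm_num) (by decide) (by decide) (by norm_num) (by norm_num)
  have e2 := step 1 2 4 (by decide) (by norm_num) (by decide) (by decide) (by norm_num) (by norm_num)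
  have e3 := step 2 3 5 (by decide) (by norm_num) (by decide) (by decide) (by norm_num) (by norm_num)
  have e4 := step 3 4 6 (by decide) (by norm_num) (by decide) (by decide) (by norm_num) (by norm_num)
  have e7 := step 3 7 5 (by decide) (by norm_num) (by decide) (by decide) (by norm_num) (by norm_num)
  have e5 := step 4 5 0 (by decide) (by norm_num) (by decide) (by decide) (by norm_num) (by norm_num)
  have e6 := step 5 6 0 (by decide) (by norm_num) (by decide) (by decide) (by norm_num) (by norm_num)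
  have e9 := step 6 9 0 (by decide) (by norm_num) (by decide) (by decide) (by norm_num) (by norm_num)
  have e8 := step 7 8 0 (by decide) (by norm_num) (by decide) (by decide) (by norm_num) (by norm_num)
  have e11 := step 11 0 2 (by decide) (by norm_num) (by decide) (by decide) (by norm_num) (by norm_num)
  have e10 := step 10 11 1 (by decide) (by norm_num) (by decide) (by decide) (by norm_num) (by norm_num)
  have hall : ∀ x < 12, q x = q 0 := by
    intro x hx
    interval_cases x <;> simp only [e10, e11, ← e1, ← e2, ← e3, ← e4, ← e5, ← e6, ← e7, ← e8, ← e9]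
  have hc : QuotientGroup.mk' N cG = 1 := by
    rw [cG, map_wprod]
    rw [show wprod (fun x => QuotientGroup.mk' N (gG x)) zW = wprod (fun _ => q 0) zW from
      wprod_congr fun x hx => hall x ((show ∀ x ∈ zW, x < 12 by decide) x hx)]
    rw [zW, wprod_rep, show wprod (fun _ => q 0) [3, 2, 1, 0, 11, 10, 3, 4, 5, 6, 9, 3, 7, 8] = 1 by
      simp only [wprod_cons, wprod_nil, mul_one, hsq], one_pow]
  exact (QuotientGroup.eq_one_iff _).1 hc

/-- A stem extension of the commutator subgroup with kernel of order three. -/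
theorem exists_stem3 : ∃ (E : Type) (_ : Group E) (_ : Finite E) (τ : E →* ↥(commutator Cfsg.Spor.Fi24)),
    Cfsg.IsStemExtension τ ∧ Nonempty (τ.ker ≃* Multiplicative (ZMod 3)) := by
  have := finite_G24
  have : Finite (Equiv.Perm (Fin (3 * 306936)))ᵐᵒᵖ := Finite.of_equiv _ MulOpposite.opEquiv
  let τ : Ev →* ↥(commutator G24) := (pr.comp Ev.subtype).codRestrict (commutator G24) fun u => u.2
  let c0 : Ev := ⟨cG, cG_mem⟩
  have hker : τ.ker = Subgroup.zpowers c0 := by
    ext u
    rw [MonoidHom.mem_ker, Subgroup.mem_zpowers_iff]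
    have hiff : τ u = 1 ↔ (u : Gam) ∈ pr.ker := ⟨fun h => congrArg Subtype.val h, fun h => Subtype.ext h⟩
    rw [hiff, ker_pr, Subgroup.mem_zpowers_iff]
    exact exists_congr fun k => ⟨fun h => Subtype.ext (by rw [SubgroupClass.coe_zpow]; exact h),
      fun h => by rw [← h, SubgroupClass.coe_zpow]⟩
  refine ⟨Ev, inferInstance, inferInstance, τ, ⟨?_, ?_, ?_⟩, ?_⟩
  · rintro ⟨y, hy⟩
    obtain ⟨u, hu⟩ := pr_surj y
    exact ⟨⟨u, show pr u ∈ commutator G24 from hu ▸ hy⟩, Subtype.ext hu⟩
  · rw [hker, Subgroup.zpowers_le, Subgroup.mem_center_iff]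
    intro g
    refine Subtype.ext ?_
    show (g : Gam) * cG = cG * g
    have h := conj_cG g
    rw [mem_Ev.1 g.2, Units.val_one, zpow_one] at h
    exact mul_inv_eq_iff_eq_mul.1 h
  · rw [hker, Subgroup.zpowers_le]
    have h := cG_derived
    rw [← Subgroup.map_subtype_commutator Ev, Subgroup.mem_map] at h
    obtain ⟨y, hy, e⟩ := h
    rwa [show c0 = y from Subtype.ext e.symm]
  · have ho : orderOf c0 = 3 := by rw [← Subgroup.orderOf_coe c0]; exact orderOf_cG
    have hc : Nat.card τ.ker = Nat.card (Multiplicative (ZMod 3)) := by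
      rw [hker, Nat.card_zpowers, ho, show Nat.card (Multiplicative (ZMod 3)) = Nat.card (ZMod 3) from rfl,
        Nat.card_zmod]
    have : IsCyclic τ.ker := by rw [hker]; infer_instance
    exact ⟨mulEquivOfCyclicCardEq hc⟩

end

end Cfsg.Agent.Fi24Pres.Cover3
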